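import Mathlib

/-!
# Involutions of `PSL(2, q)`
-/

namespace Cfsg.Agent.InvGraphPSL

open Matrix MatrixGroups

variable {F : Type*} [Field F]

/-- Trace zero. -/
def Tz (A : SL(2, F)) : Prop := (A : Matrix (Fin 2) (Fin 2) F) 1 1 = -(A : Matrix (Fin 2) (Fin 2) F) 0 0

/-- The image in the projective group. -/
abbrev proj (A : SL(2, F)) : Matrix.ProjectiveSpecialLinearGroup (Fin 2) F := QuotientGroup.mk A

theorem det_eq (A : SL(2, F)) : (A : Matrix (Fin 2) (Fin 2) F) 0 0 * (A : Matrix (Fin 2) (Fin 2) F) 1 1 -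
    (A : Matrix (Fin 2) (Fin 2) F) 0 1 * (A : Matrix (Fin 2) (Fin 2) F) 1 0 = 1 := by
  rw [← Matrix.det_fin_two]; exact A.2

theorem mk_tz_det {a b c : F} (h : -(a * a) - b * c = 1) : (!![a, b; c, -a]).det = 1 := by
  rw [Matrix.det_fin_two_of, ← h]; ring

/-- A trace zero element from its entries. -/
def mkTz (a b c : F) (h : -(a * a) - b * c = 1) : SL(2, F) := ⟨!![a, b; c, -a], mk_tz_det h⟩

theorem tz_mkTz (a b c : F) (h : -(a * a) - b * c = 1) : Tz (mkTz a b c h) := by simp [Tz, mkTz]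

theorem cayley (A : SL(2, F)) :
    (A : Matrix (Fin 2) (Fin 2) F) * A =
      ((A : Matrix (Fin 2) (Fin 2) F) 0 0 + (A : Matrix (Fin 2) (Fin 2) F) 1 1) • (A : Matrix (Fin 2) (Fin 2) F) - 1 := by
  have h := det_eq A
  ext i j
  fin_cases i <;> fin_cases j <;> simp [Matrix.mul_apply, Fin.sum_univ_two] <;> first | linear_combination h | linear_combination -h | ring

theorem mem_center_of_scalar (A : SL(2, F)) (r : F) (h : (A : Matrix (Fin 2) (Fin 2) F) = r • (1 : Matrix (Fin 2) (Fin 2) F)) :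
    A ∈ Subgroup.center SL(2, F) := by
  rw [Matrix.SpecialLinearGroup.mem_center_iff]
  refine ⟨r, ?_, ?_⟩
  · have := A.2
    rw [h, Matrix.det_smul, Matrix.det_one, mul_one] at this
    exact this
  · rw [h, Matrix.scalar_apply, Matrix.smul_one_eq_diagonal]

theorem tz_mul_self {A : SL(2, F)} (hA : Tz A) : (A : Matrix (Fin 2) (Fin 2) F) * A = -1 := by
  rw [cayley, hA, add_neg_cancel, zero_smul, zero_sub]

theorem proj_eq_one {A : SL(2, F)} : proj A = 1 ↔ A ∈ Subgroup.center SL(2, F) :=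
  QuotientGroup.eq_one_iff A

theorem proj_mul (A B : SL(2, F)) : proj A * proj B = proj (A * B) := rfl

theorem proj_mul_self {A : SL(2, F)} (hA : Tz A) : proj A * proj A = 1 := by
  rw [proj_mul, proj_eq_one]
  exact mem_center_of_scalar _ (-1) (by rw [Matrix.SpecialLinearGroup.coe_mul, tz_mul_self hA]; simp)

theorem exists_lift (x : Matrix.ProjectiveSpecialLinearGroup (Fin 2) F) (hx : orderOf x = 2) :
    ∃ A : SL(2, F), Tz A ∧ A ∉ Subgroup.center SL(2, F) ∧ proj A = x := by
  obtain ⟨A, rfl⟩ := QuotientGroup.mk_surjective x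
  have hnc : A ∉ Subgroup.center SL(2, F) := fun h => by
    rw [show (QuotientGroup.mk A : Matrix.ProjectiveSpecialLinearGroup (Fin 2) F) = 1 from proj_eq_one.2 h,
      orderOf_one] at hx
    omega
  refine ⟨A, ?_, hnc, rfl⟩
  have h2 : A * A ∈ Subgroup.center SL(2, F) := by
    rw [← proj_eq_one, ← proj_mul, ← sq]
    exact orderOf_dvd_iff_pow_eq_one.1 (dvd_of_eq hx)
  obtain ⟨r, -, hr⟩ := Matrix.SpecialLinearGroup.mem_center_iff.1 h2
  rw [Matrix.SpecialLinearGroup.coe_mul, cayley, Matrix.scalar_apply, ← Matrix.smul_one_eq_diagonal] at hr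
  by_contra hne
  set τ := (A : Matrix (Fin 2) (Fin 2) F) 0 0 + (A : Matrix (Fin 2) (Fin 2) F) 1 1 with hτ
  have hτ0 : τ ≠ 0 := fun h => hne (by rw [hτ] at h; exact eq_neg_of_add_eq_zero_right h)
  refine hnc (mem_center_of_scalar A (τ⁻¹ * (r + 1)) ?_)
  rw [← smul_smul, add_smul, one_smul, hr, sub_add_cancel, smul_smul, inv_mul_cancel₀ hτ0, one_smul]

theorem orderOf_proj {A : SL(2, F)} (hA : Tz A) (hnc : A ∉ Subgroup.center SL(2, F)) : orderOf (proj A) = 2 :=
  orderOf_eq_prime (by rw [sq, proj_mul_self hA]) (fun h => hnc (proj_eq_one.1 h))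

theorem exists_two_squares [Fintype F] (r : F) : ∃ x y : F, x ^ 2 + y ^ 2 = r := by
  by_cases h2 : ringChar F = 2
  · obtain ⟨x, hx⟩ := FiniteField.isSquare_of_char_two h2 r
    exact ⟨x, 0, by rw [hx]; ring⟩
  · obtain ⟨a, b, hab⟩ := FiniteField.exists_root_sum_quadratic (R := F) (f := Polynomial.X ^ 2)
      (g := Polynomial.X ^ 2 - Polynomial.C r) (Polynomial.degree_X_pow 2)
      (Polynomial.degree_X_pow_sub_C two_pos r) (FiniteField.odd_card_of_char_ne_two h2)
    simp only [Polynomial.eval_pow, Polynomial.eval_X, Polynomial.eval_sub, Polynomial.eval_C] at hab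
    exact ⟨a, b, by linear_combination hab⟩

/-- The standard involution. -/
def J : SL(2, F) := mkTz 0 (-1) 1 (by ring)

/-- All trace zero noncentral elements are conjugate to `J`. -/
theorem conj_J [Fintype F] {A : SL(2, F)} (hA : Tz A) (hnc : A ∉ Subgroup.center SL(2, F)) :
    ∃ P : SL(2, F), A * P = P * J := by
  set a := (A : Matrix (Fin 2) (Fin 2) F) 0 0 with ha
  set b := (A : Matrix (Fin 2) (Fin 2) F) 0 1 with hb
  set c := (A : Matrix (Fin 2) (Fin 2) F) 1 0 with hc
  have hd : (A : Matrix (Fin 2) (Fin 2) F) 1 1 = -a := hA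
  have hdet : -(a * a) - b * c = 1 := by
    have := det_eq A
    rw [hd] at this
    linear_combination this
  obtain ⟨x, y, hxy⟩ : ∃ x y : F, c * x ^ 2 - 2 * a * x * y - b * y ^ 2 = 1 := by
    by_cases hc0 : c = 0
    · by_cases h2 : (2 : F) = 0
      · have hb0 : b ≠ 0 := by
          intro hb0
          refine hnc (mem_center_of_scalar A a ?_)
          ext i j
          fin_cases i <;> fin_cases j <;> simp [← ha, ← hb, ← hc, hd, hb0, hc0]
          linear_combination -a * h2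
        have hch : ringChar F = 2 := ringChar.eq_iff.2 (CharTwo.of_one_ne_zero_of_two_eq_zero one_ne_zero h2)
        obtain ⟨y, hy⟩ := FiniteField.isSquare_of_char_two hch (-b⁻¹)
        refine ⟨0, y, ?_⟩
        rw [sq y, ← hy]
        field_simp
        ring
      · have ha0 : a ≠ 0 := fun h => by rw [h, hc0] at hdet; simp at hdet
        refine ⟨(-b - 1) / (2 * a), 1, ?_⟩
        rw [hc0]
        field_simp
        ring
    · obtain ⟨X, y, hX⟩ := exists_two_squares c
      refine ⟨(X + a * y) / c, y, ?_⟩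
      field_simp
      linear_combination hX + y ^ 2 * hdet
  let P : SL(2, F) := ⟨!![x, a * x + b * y; y, c * x - a * y], by
    rw [Matrix.det_fin_two_of]; linear_combination hxy⟩
  refine ⟨P, Subtype.ext ?_⟩
  rw [Matrix.SpecialLinearGroup.coe_mul, Matrix.SpecialLinearGroup.coe_mul]
  ext i j
  fin_cases i <;> fin_cases j <;>
    simp [P, J, mkTz, Matrix.mul_apply, Fin.sum_univ_two, ← ha, ← hb, ← hc, hd]
  · linear_combination -x * hdet
  · ring
  · linear_combination -y * hdet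

theorem isConj_proj [Fintype F] {A B : SL(2, F)} (hA : Tz A) (hAn : A ∉ Subgroup.center SL(2, F))
    (hB : Tz B) (hBn : B ∉ Subgroup.center SL(2, F)) : IsConj (proj A) (proj B) := by
  obtain ⟨P, hP⟩ := conj_J hA hAn
  obtain ⟨Q, hQ⟩ := conj_J hB hBn
  refine isConj_iff.2 ⟨proj (Q * P⁻¹), ?_⟩
  rw [← QuotientGroup.mk_inv, proj_mul, proj_mul]
  congr 1
  calc Q * P⁻¹ * A * (Q * P⁻¹)⁻¹ = Q * (P⁻¹ * (A * P)) * Q⁻¹ := by group
    _ = Q * J * Q⁻¹ := by rw [hP, inv_mul_cancel_left]
    _ = B := by rw [← hQ, mul_inv_cancel_right]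

end Cfsg.Agent.InvGraphPSL
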