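import Cfsg.Agent.InvGraphPSL.Basic

/-!
# Odd-order products of involutions of `PSL(2, q)`
-/

namespace Cfsg.Agent.InvGraphPSL

open Matrix MatrixGroups

variable {F : Type*} [Field F]

/-- The pairing of trace zero elements. -/
def ip (A B : SL(2, F)) : F :=
  -((A : Matrix (Fin 2) (Fin 2) F) 0 0 * (B : Matrix (Fin 2) (Fin 2) F) 0 0) -
    ((A : Matrix (Fin 2) (Fin 2) F) 0 1 * (B : Matrix (Fin 2) (Fin 2) F) 1 0 +
      (A : Matrix (Fin 2) (Fin 2) F) 1 0 * (B : Matrix (Fin 2) (Fin 2) F) 0 1) / 2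

theorem ip_comm (A B : SL(2, F)) : ip A B = ip B A := by simp only [ip]; ring

theorem trace_mul (h2 : (2 : F) ≠ 0) {A B : SL(2, F)} (hA : Tz A) (hB : Tz B) :
    ((A * B : SL(2, F)) : Matrix (Fin 2) (Fin 2) F) 0 0 + ((A * B : SL(2, F)) : Matrix (Fin 2) (Fin 2) F) 1 1 =
      2 * (-ip A B) := by
  simp only [Matrix.SpecialLinearGroup.coe_mul, Matrix.mul_apply, Fin.sum_univ_two, ip]
  rw [show (A : Matrix (Fin 2) (Fin 2) F) 1 1 = _ from hA, show (B : Matrix (Fin 2) (Fin 2) F) 1 1 = _ from hB]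
  field_simp
  ring

variable [Fintype F]

/-- Half traces giving elements of odd projective order. -/
def Good (u : F) : Prop := ∃ w : F, u ^ 2 - 1 = w ^ 2 ∧ (w ≠ 0 → Fintype.card F % 4 = 3)

theorem good_neg {u : F} (h : Good u) : Good (-u) := by
  obtain ⟨w, hw, hw'⟩ := h
  exact ⟨w, by rw [neg_sq, hw], hw'⟩

theorem good_one : Good (1 : F) := ⟨0, by ring, fun h => absurd rfl h⟩

/-- Elements with a good half trace have odd order. -/
theorem odd_order (h2 : ringChar F ≠ 2) (M : SL(2, F)) {u : F}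
    (hu : (M : Matrix (Fin 2) (Fin 2) F) 0 0 + (M : Matrix (Fin 2) (Fin 2) F) 1 1 = 2 * u) (hg : Good u) :
    Odd (orderOf (proj M)) := by
  obtain ⟨w, hw, hw'⟩ := hg
  set N := (M : Matrix (Fin 2) (Fin 2) F) with hN
  have hNN : N * N = (2 * u) • N - 1 := by rw [hN, cayley, hu]
  have hdvd : ∀ n : ℕ, ∀ r : F, N ^ n = r • (1 : Matrix (Fin 2) (Fin 2) F) → orderOf (proj M) ∣ n := by
    intro n r hn
    refine orderOf_dvd_of_pow_eq_one ?_
    rw [← QuotientGroup.mk_pow]
    exact proj_eq_one.2 (mem_center_of_scalar _ r (by rw [Matrix.SpecialLinearGroup.coe_pow, ← hN, hn]))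
  rcases eq_or_ne w 0 with rfl | hw0
  · have hu2 : u ^ 2 = 1 := by linear_combination hw
    have key : ∀ n : ℕ, N ^ (n + 1) = ((n + 1 : F) * u ^ n) • N - ((n : F) * u ^ (n + 1)) • (1 : Matrix (Fin 2) (Fin 2) F) := by
      intro n
      induction n with
      | zero => simp
      | succ n ih =>
        rw [_root_.pow_succ N, ih, sub_mul, smul_mul_assoc, smul_mul_assoc, hNN, one_mul, smul_sub, smul_smul]
        push_cast
        have e1 : (n + 1 : F) * u ^ n * (2 * u) - (n : F) * u ^ (n + 1) = (n + 1 + 1) * u ^ (n + 1) := by ring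
        have e2 : (n + 1 : F) * u ^ n = (n + 1) * u ^ (n + 1 + 1) := by
          rw [show n + 1 + 1 = n + 2 by rfl, pow_add, hu2, mul_one]
        rw [← e1, ← e2]
        module
    set p := ringChar F with hp
    have hpp : p.Prime := CharP.char_is_prime F p
    have hcast : ((p - 1 : ℕ) : F) = -1 := by
      have : ((p - 1 + 1 : ℕ) : F) = 0 := by
        rw [Nat.sub_add_cancel hpp.pos, hp]; exact ringChar.Nat.cast_ringChar
      push_cast at this
      exact eq_neg_of_add_eq_zero_left this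
    have hk := key (p - 1)
    rw [hcast, Nat.sub_add_cancel hpp.pos, neg_add_cancel, zero_mul, zero_smul, zero_sub, neg_one_mul, neg_smul,
      neg_neg] at hk
    exact (hpp.odd_of_ne_two h2).of_dvd_nat (hdvd p _ hk)
  · have hq := hw' hw0
    set l := u + w with hl
    set m := u - w with hm
    have hlm : l * m = 1 := by rw [hl, hm]; linear_combination hw
    have hsum : l + m = 2 * u := by rw [hl, hm]; ring
    have key : ∀ n : ℕ, (l - m) • N ^ n = (l ^ n - m ^ n) • N + (m ^ n * l - l ^ n * m) • (1 : Matrix (Fin 2) (Fin 2) F) := by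
      intro n
      induction n with
      | zero => simp
      | succ n ih =>
        rw [_root_.pow_succ N, ← smul_mul_assoc, ih, add_mul, smul_mul_assoc, smul_mul_assoc, hNN, one_mul, smul_sub, smul_smul]
        have e1 : (l ^ n - m ^ n) * (2 * u) + (m ^ n * l - l ^ n * m) = l ^ (n + 1) - m ^ (n + 1) := by
          rw [← hsum]; ring
        have e2 : m ^ (n + 1) * l - l ^ (n + 1) * m = -(l ^ n - m ^ n) := by
          linear_combination (m ^ n - l ^ n) * hlm
        rw [← e1, e2]
        module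
    set h := (Fintype.card F - 1) / 2 with hh
    have hl0 : l ≠ 0 := left_ne_zero_of_mul_eq_one hlm
    have hlsq : (l ^ h) ^ 2 = 1 := by
      rw [← pow_mul, show h * 2 = Fintype.card F - 1 by omega]
      exact FiniteField.pow_card_sub_one_eq_one l hl0
    have heq : m ^ h = l ^ h := by
      calc m ^ h = m ^ h * (l ^ h) ^ 2 := by rw [hlsq, mul_one]
        _ = (l * m) ^ h * l ^ h := by rw [mul_pow]; ring
        _ = l ^ h := by rw [hlm, one_pow, one_mul]
    have hk := key h
    rw [heq, sub_self, zero_smul, zero_add] at hk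
    have hd : l - m ≠ 0 := by
      rw [hl, hm, show u + w - (u - w) = 2 * w by ring]
      exact mul_ne_zero (Ring.two_ne_zero h2) hw0
    refine (Nat.odd_iff.2 (show h % 2 = 1 by omega)).of_dvd_nat (hdvd h (l ^ h) ?_)
    refine smul_right_injective _ hd ?_
    show (l - m) • N ^ h = (l - m) • (l ^ h • (1 : Matrix (Fin 2) (Fin 2) F))
    rw [hk, smul_smul]
    congr 1
    ring

theorem adj_of_good (h2 : ringChar F ≠ 2) {A B : SL(2, F)} (hA : Tz A) (hB : Tz B) (hg : Good (ip A B)) :
    Odd (orderOf (proj A * proj B)) := by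
  rw [proj_mul]
  exact odd_order h2 _ (trace_mul (Ring.two_ne_zero h2) hA hB) (good_neg hg)

theorem ip_sq_of_proj_eq (h2 : ringChar F ≠ 2) {A C : SL(2, F)} (hA : Tz A) (h : proj A = proj C) (B : SL(2, F)) :
    (ip B C = ip B A ∨ ip B C = -ip B A) ∧ (ip A C = 1 ∨ ip A C = -1) := by
  have hmem : A⁻¹ * C ∈ Subgroup.center SL(2, F) := QuotientGroup.eq.1 h
  obtain ⟨r, hr, hr'⟩ := Matrix.SpecialLinearGroup.mem_center_iff.1 hmem
  have hC : (C : Matrix (Fin 2) (Fin 2) F) = r • (A : Matrix (Fin 2) (Fin 2) F) := by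
    have : C = A * (A⁻¹ * C) := by group
    rw [this, Matrix.SpecialLinearGroup.coe_mul, ← hr', Matrix.scalar_apply, ← Matrix.smul_one_eq_diagonal,
      mul_smul_comm, mul_one]
  rw [Fintype.card_fin, sq, mul_self_eq_one_iff] at hr
  have hAA : ip A A = 1 := by
    have h := det_eq A
    rw [show (A : Matrix (Fin 2) (Fin 2) F) 1 1 = _ from hA] at h
    have h2' : (2 : F) ≠ 0 := Ring.two_ne_zero h2
    simp only [ip]
    field_simp
    linear_combination 2 * h
  have hlin : ∀ B : SL(2, F), ip B C = r * ip B A := fun B => by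
    simp only [ip, hC, Matrix.smul_apply, smul_eq_mul]; ring
  rcases hr with rfl | rfl
  · exact ⟨Or.inl (by rw [hlin, one_mul]), Or.inl (by rw [hlin, one_mul, hAA])⟩
  · exact ⟨Or.inr (by rw [hlin, neg_one_mul]), Or.inr (by rw [hlin, hAA, mul_one])⟩

/-- An element with prescribed pairings. -/
theorem exists_third (h2 : ringChar F ≠ 2) {A B : SL(2, F)} (hA : Tz A) (hB : Tz B)
    (ht : 1 - ip A B ^ 2 ≠ 0) (u v z : F)
    (hz : z ^ 2 = 1 - ip A B ^ 2 - u ^ 2 - v ^ 2 + 2 * ip A B * u * v) :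
    ∃ C : SL(2, F), Tz C ∧ ip A C = u ∧ ip B C = v := by
  have h2' : (2 : F) ≠ 0 := Ring.two_ne_zero h2
  set t := ip A B with htdef
  set a := (A : Matrix (Fin 2) (Fin 2) F) 0 0
  set b := (A : Matrix (Fin 2) (Fin 2) F) 0 1
  set c := (A : Matrix (Fin 2) (Fin 2) F) 1 0
  set a' := (B : Matrix (Fin 2) (Fin 2) F) 0 0
  set b' := (B : Matrix (Fin 2) (Fin 2) F) 0 1
  set c' := (B : Matrix (Fin 2) (Fin 2) F) 1 0
  have hA' : -(a * a) - b * c = 1 := by
    have h := det_eq A
    rw [show (A : Matrix (Fin 2) (Fin 2) F) 1 1 = _ from hA] at h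
    linear_combination h
  have hB' : -(a' * a') - b' * c' = 1 := by
    have h := det_eq B
    rw [show (B : Matrix (Fin 2) (Fin 2) F) 1 1 = _ from hB] at h
    linear_combination h
  have htv : t = -(a * a') - (b * c' + c * b') / 2 := by simp only [htdef, ip, a, b, c, a', b', c']
  set al := (u - t * v) / (1 - t ^ 2) with hal
  set be := (v - t * u) / (1 - t ^ 2) with hbe
  set s := z / (1 - t ^ 2) with hs
  set d1 := (b * c' - c * b') / 2 with hd1
  set d2 := a * b' - b * a' with hd2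
  set d3 := c * a' - a * c' with hd3
  have hAD : -(a * d1) - (b * d3 + c * d2) / 2 = 0 := by rw [hd1, hd2, hd3]; field_simp; ring
  have hBD : -(a' * d1) - (b' * d3 + c' * d2) / 2 = 0 := by rw [hd1, hd2, hd3]; field_simp; ring
  have hDD : -(d1 * d1) - d2 * d3 = 1 - t ^ 2 := by
    have : (-(a * a) - b * c) * (-(a' * a') - b' * c') - t ^ 2 = -(d1 * d1) - d2 * d3 := by
      rw [htv, hd1, hd2, hd3]; field_simp; ring
    rw [← this, hA', hB', one_mul]
  have hu : al + be * t = u := by rw [hal, hbe]; field_simp; ring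
  have hv : al * t + be = v := by rw [hal, hbe]; field_simp; ring
  have hn : al ^ 2 + be ^ 2 + 2 * al * be * t + s ^ 2 * (1 - t ^ 2) = 1 := by
    rw [hal, hbe, hs, div_pow z, hz]; field_simp; ring
  have hC : -((al * a + be * a' + s * d1) * (al * a + be * a' + s * d1)) -
      (al * b + be * b' + s * d2) * (al * c + be * c' + s * d3) = 1 := by
    have e : -((al * a + be * a' + s * d1) * (al * a + be * a' + s * d1)) -
        (al * b + be * b' + s * d2) * (al * c + be * c' + s * d3) =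
        al ^ 2 * (-(a * a) - b * c) + be ^ 2 * (-(a' * a') - b' * c') +
          2 * al * be * (-(a * a') - (b * c' + c * b') / 2) + s ^ 2 * (-(d1 * d1) - d2 * d3) +
          2 * al * s * (-(a * d1) - (b * d3 + c * d2) / 2) + 2 * be * s * (-(a' * d1) - (b' * d3 + c' * d2) / 2) := by
      field_simp; ring
    rw [e, hA', hB', hDD, hAD, hBD, ← htv]
    linear_combination hn
  refine ⟨mkTz _ _ _ hC, tz_mkTz _ _ _ hC, ?_, ?_⟩
  · rw [← hu, htv]
    show -(a * (al * a + be * a' + s * d1)) - (b * (al * c + be * c' + s * d3) + c * (al * b + be * b' + s * d2)) / 2 = _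
    have h2A : al * (-(a * a) - b * c) = al := by rw [hA', mul_one]
    have h2D : s * (-(a * d1) - (b * d3 + c * d2) / 2) = 0 := by rw [hAD, mul_zero]
    field_simp at h2D ⊢
    linear_combination 2 * h2A + h2D
  · rw [← hv, htv]
    show -(a' * (al * a + be * a' + s * d1)) - (b' * (al * c + be * c' + s * d3) + c' * (al * b + be * b' + s * d2)) / 2 = _
    have h2B : be * (-(a' * a') - b' * c') = be := by rw [hB', mul_one]
    have h2D : s * (-(a' * d1) - (b' * d3 + c' * d2) / 2) = 0 := by rw [hBD, mul_zero]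
    field_simp at h2D ⊢
    linear_combination 2 * h2B + h2D

/-- Counting gives a good value. -/
theorem exists_meet (h2 : ringChar F ≠ 2) (hq3 : Fintype.card F % 4 = 3) {K k : F}
    (hK : ¬ IsSquare K) : ∃ v w z : F, v ^ 2 - 1 = w ^ 2 ∧ z ^ 2 = K - (v - k) ^ 2 := by
  classical
  have h2' : (2 : F) ≠ 0 := Ring.two_ne_zero h2
  have hm1 : ¬ IsSquare (-1 : F) := fun h => (FiniteField.isSquare_neg_one_iff.1 h) hq3
  have hone : ∀ m : F, 1 + m ^ 2 ≠ 0 := fun m h => hm1 ⟨m, by linear_combination -h⟩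
  obtain ⟨x₀, y₀, h₀⟩ := exists_two_squares K
  let T : Finset F := Finset.univ.filter fun v => ∃ w : F, v ^ 2 - 1 = w ^ 2
  let V : Finset F := Finset.univ.filter fun v => ∃ z : F, z ^ 2 = K - (v - k) ^ 2
  -- at most two ordinates over each abscissa
  have hfib : ∀ (c : F → F) (S : Finset (F × F)) (R : Finset F),
      (∀ x ∈ S, x.1 ∈ R) → (∀ x ∈ S, x.2 ^ 2 = c x.1) → S.card ≤ 2 * R.card := by
    intro c S R hR hS
    refine Finset.card_le_mul_card_image_of_maps_to (f := Prod.fst) hR 2 fun r _ => ?_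
    rcases (S.filter fun x => x.1 = r).eq_empty_or_nonempty with h | ⟨y, hy⟩
    · rw [h]; simp
    · rw [Finset.mem_filter] at hy
      refine le_trans (Finset.card_le_card (t := {(r, y.2), (r, -y.2)}) fun x hx => ?_) Finset.card_le_two
      rw [Finset.mem_filter] at hx
      have : x.2 ^ 2 = y.2 ^ 2 := by rw [hS x hx.1, hS y hy.1, hx.2, hy.2]
      rcases sq_eq_sq_iff_eq_or_eq_neg.1 this with h | h
      · exact Finset.mem_insert.2 (Or.inl (Prod.ext hx.2 h))
      · exact Finset.mem_insert.2 (Or.inr (Finset.mem_singleton.2 (Prod.ext hx.2 h)))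
  -- the hyperbola
  let hyp : F → F × F := fun r => ((r + r⁻¹) / 2, (r - r⁻¹) / 2)
  have hT : Fintype.card F - 1 + 2 ≤ 2 * T.card := by
    let S := (Finset.univ.erase (0 : F)).image hyp
    have hSc : S.card = Fintype.card F - 1 := by
      rw [Finset.card_image_of_injective _ (fun r s h => ?_), Finset.card_erase_of_mem (Finset.mem_univ _),
        Finset.card_univ]
      have e1 := congrArg Prod.fst h
      have e2 := congrArg Prod.snd h
      simp only [hyp] at e1 e2
      have key : ∀ r : F, (r + r⁻¹) / 2 + (r - r⁻¹) / 2 = r := fun r => by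
        rw [← add_div, show r + r⁻¹ + (r - r⁻¹) = 2 * r by ring, mul_div_cancel_left₀ _ h2']
      rw [← key r, ← key s, e1, e2]
    let S₁ := S.filter fun x => x.2 ≠ 0
    have hsub : S ⊆ S₁ ∪ {((1 : F), 0), (-1, 0)} := by
      intro x hx
      by_cases hx2 : x.2 = 0
      · refine Finset.mem_union_right _ ?_
        obtain ⟨r, hr, rfl⟩ := Finset.mem_image.1 hx
        have hr0 := (Finset.mem_erase.1 hr).1
        simp only [hyp] at hx2 ⊢
        have hri : r⁻¹ = r := by
          rw [div_eq_zero_iff] at hx2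
          exact (sub_eq_zero.1 (hx2.resolve_right h2')).symm
        have hr1 : r * r = 1 := by
          calc r * r = r⁻¹ * r := by rw [hri]
            _ = 1 := inv_mul_cancel₀ hr0
        rw [hri, sub_self, zero_div, ← two_mul, mul_div_cancel_left₀ _ h2']
        rcases mul_self_eq_one_iff.1 hr1 with e | e <;> simp [e]
      · exact Finset.mem_union_left _ (Finset.mem_filter.2 ⟨hx, hx2⟩)
    have hS1 : S₁.card ≤ 2 * (T \ {1, -1}).card := by
      refine hfib (fun v => v ^ 2 - 1) S₁ _ ?_ ?_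
      · intro x hx
        rw [Finset.mem_filter] at hx
        obtain ⟨r, hr, rfl⟩ := Finset.mem_image.1 hx.1
        have hr0 := (Finset.mem_erase.1 hr).1
        have he : ((r + r⁻¹) / 2) ^ 2 - 1 = ((r - r⁻¹) / 2) ^ 2 := by field_simp; ring
        refine Finset.mem_sdiff.2 ⟨Finset.mem_filter.2 ⟨Finset.mem_univ _, _, he⟩, fun h => hx.2 ?_⟩
        have hsq : ((r + r⁻¹) / 2) ^ 2 = 1 := by
          rcases Finset.mem_insert.1 h with e | e
          · simp only [hyp] at e; rw [e, one_pow]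
          · have e' := Finset.mem_singleton.1 e
            simp only [hyp] at e'; rw [e']; ring
        have h0 : ((r - r⁻¹) / 2) ^ 2 = 0 := by rw [← he, hsq, sub_self]
        exact pow_eq_zero_iff two_ne_zero |>.1 h0
      · intro x hx
        obtain ⟨r, hr, rfl⟩ := Finset.mem_image.1 (Finset.mem_filter.1 hx).1
        have hr0 := (Finset.mem_erase.1 hr).1
        simp only [hyp]
        field_simp
        ring
    have hT2 : (T \ {1, -1}).card + 2 ≤ T.card := by
      have hne : (1 : F) ≠ -1 := fun h => h2' (by linear_combination h)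
      have hle : ({1, -1} : Finset F) ⊆ T := by
        intro x hx
        refine Finset.mem_filter.2 ⟨Finset.mem_univ _, 0, ?_⟩
        rcases Finset.mem_insert.1 hx with rfl | hx
        · ring
        · rw [Finset.mem_singleton.1 hx]; ring
      rw [← Finset.card_pair hne, Finset.card_sdiff_add_card_eq_card hle]
    have h3 := (Finset.card_le_card hsub).trans (Finset.card_union_le _ _)
    have h4 : ({((1 : F), 0), (-1, 0)} : Finset (F × F)).card ≤ 2 := Finset.card_le_two
    omega
  -- the circle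
  let g : Option F → F × F := fun o => match o with
    | none => (-1, 0)
    | some m => ((1 - m ^ 2) / (1 + m ^ 2), 2 * m / (1 + m ^ 2))
  have hgn : ∀ o, (g o).1 ^ 2 + (g o).2 ^ 2 = 1 := by
    rintro (_ | m)
    · simp [g]
    · have := hone m
      simp only [g]
      field_simp
      ring
  have hgi : Function.Injective g := by
    have hne : ∀ m : F, (1 - m ^ 2) / (1 + m ^ 2) ≠ -1 := fun m h => by
      have := hone m
      field_simp at h
      exact h2' (by linear_combination h)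
    rintro (_ | m) (_ | m') h
    · rfl
    · exact absurd (congrArg Prod.fst h).symm (hne m')
    · exact absurd (congrArg Prod.fst h) (hne m)
    · have e1 := congrArg Prod.fst h
      have e2 := congrArg Prod.snd h
      simp only [g] at e1 e2
      have := hone m
      have := hone m'
      -- recover the parameter
      have k1 : ∀ m : F, 1 + m ^ 2 ≠ 0 → 2 * m / (1 + m ^ 2) = m * (1 + (1 - m ^ 2) / (1 + m ^ 2)) := fun m hm => by
        field_simp; ring
      rw [k1 m (hone m), k1 m' (hone m'), ← e1] at e2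
      refine congrArg some (mul_right_cancel₀ ?_ e2)
      intro h0
      exact hne m (by linear_combination h0)
  have hK0 : K ≠ 0 := fun h => hK (h ▸ IsSquare.zero)
  let pt : Option F → F × F := fun o => (k + (x₀ * (g o).1 - y₀ * (g o).2), x₀ * (g o).2 + y₀ * (g o).1)
  have hpi : Function.Injective pt := fun o o' h => hgi (by
    have e1 := congrArg Prod.fst h
    have e2 := congrArg Prod.snd h
    simp only [pt] at e1 e2
    refine Prod.ext (mul_left_cancel₀ hK0 ?_) (mul_left_cancel₀ hK0 ?_)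
    · rw [← h₀]; linear_combination x₀ * e1 + y₀ * e2
    · rw [← h₀]; linear_combination -y₀ * e1 + x₀ * e2)
  have hV : Fintype.card F + 1 ≤ 2 * V.card := by
    have := hfib (fun v => K - (v - k) ^ 2) (Finset.univ.image pt) V ?_ ?_
    · rw [Finset.card_image_of_injective _ hpi, Finset.card_univ, Fintype.card_option] at this
      exact this
    · intro x hx
      obtain ⟨o, -, rfl⟩ := Finset.mem_image.1 hx
      refine Finset.mem_filter.2 ⟨Finset.mem_univ _, (pt o).2, ?_⟩
      simp only [pt]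
      linear_combination h₀ + (x₀ ^ 2 + y₀ ^ 2) * hgn o
    · intro x hx
      obtain ⟨o, -, rfl⟩ := Finset.mem_image.1 hx
      simp only [pt]
      linear_combination h₀ + (x₀ ^ 2 + y₀ ^ 2) * hgn o
  have hq : 1 < Fintype.card F := Fintype.one_lt_card
  obtain ⟨v, hv⟩ := Finset.inter_nonempty_of_card_lt_card_add_card (Finset.subset_univ T) (Finset.subset_univ V)
    (by rw [Finset.card_univ]; omega)
  rw [Finset.mem_inter, Finset.mem_filter, Finset.mem_filter] at hv
  obtain ⟨⟨-, w, hw⟩, -, z, hz⟩ := hv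
  exact ⟨v, w, z, hw, hz⟩

/-- Common neighbours, odd characteristic. -/
theorem exists_common_odd (h2 : ringChar F ≠ 2) (hF : 4 ≤ Fintype.card F) {A B : SL(2, F)} (hA : Tz A) (hB : Tz B)
    (hng : ¬ Good (ip A B)) :
    ∃ C : SL(2, F), Tz C ∧ proj A ≠ proj C ∧ proj C ≠ proj B ∧
      Odd (orderOf (proj A * proj C)) ∧ Odd (orderOf (proj C * proj B)) := by
  classical
  set t := ip A B with htdef
  have ht : 1 - t ^ 2 ≠ 0 := fun h => hng ⟨0, by linear_combination -h, fun h0 => absurd rfl h0⟩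
  obtain ⟨u, v, z, hu, hv, hz⟩ : ∃ u v z : F, Good u ∧ Good v ∧ z ^ 2 = 1 - t ^ 2 - u ^ 2 - v ^ 2 + 2 * t * u * v := by
    rcases Classical.em (IsSquare (-1 : F)) with ⟨i, hi⟩ | hm1
    · exact ⟨1, 1, i * (1 - t), good_one, good_one, by linear_combination -(1 - t) ^ 2 * hi⟩
    · have hq3 : Fintype.card F % 4 = 3 := by
        by_contra h; exact hm1 (FiniteField.isSquare_neg_one_iff.2 h)
      have h2' : (2 : F) ≠ 0 := Ring.two_ne_zero h2
      obtain ⟨r, hr⟩ : ∃ r : F, r ∉ ({0, 1, -1} : Finset F) := by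
        by_contra hall
        push Not at hall
        have := Finset.card_le_card (s := Finset.univ) (fun x _ => hall x)
        have := Finset.card_le_three (a := (0 : F)) (b := 1) (c := -1)
        rw [Finset.card_univ] at *
        omega
      simp only [Finset.mem_insert, Finset.mem_singleton, not_or] at hr
      obtain ⟨hr0, hr1, hr2⟩ := hr
      set u := (r + r⁻¹) / 2 with hu
      set w := (r - r⁻¹) / 2 with hw
      have huw : u ^ 2 - 1 = w ^ 2 := by rw [hu, hw]; field_simp; ring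
      have hw0 : w ≠ 0 := by
        rw [hw]
        refine div_ne_zero (fun h => ?_) h2'
        have : r * r = 1 := by
          calc r * r = r⁻¹ * r := by rw [← sub_eq_zero.1 h]
            _ = 1 := inv_mul_cancel₀ hr0
        rcases mul_self_eq_one_iff.1 this with h' | h'
        · exact hr1 h'
        · exact hr2 h'
      have hK : ¬ IsSquare ((1 - t ^ 2) * (1 - u ^ 2)) := by
        rintro ⟨e, he⟩
        refine hng ⟨e / w, ?_, fun _ => hq3⟩
        field_simp
        linear_combination he - (t ^ 2 - 1) * huw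
      obtain ⟨v, w', z, hv, hz⟩ := exists_meet h2 hq3 (k := t * u) hK
      exact ⟨u, v, z, ⟨w, huw, fun _ => hq3⟩, ⟨w', hv, fun _ => hq3⟩, by rw [hz]; ring⟩
  obtain ⟨C, hC, hAC, hBC⟩ := exists_third h2 hA hB ht u v z hz
  refine ⟨C, hC, fun h => ?_, fun h => ?_, adj_of_good h2 hA hC (hAC ▸ hu),
    adj_of_good h2 hC hB (ip_comm C B ▸ hBC ▸ hv)⟩
  · obtain ⟨h1, -⟩ := ip_sq_of_proj_eq h2 hA h B
    rw [hBC, ip_comm B A, ← htdef] at h1
    rcases h1 with h1 | h1
    · exact hng (h1 ▸ hv)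
    · exact hng (by have := good_neg hv; rwa [h1, neg_neg] at this)
  · obtain ⟨h1, -⟩ := ip_sq_of_proj_eq h2 hB h.symm A
    rw [hAC, ← htdef] at h1
    rcases h1 with h1 | h1
    · exact hng (h1 ▸ hu)
    · exact hng (by have := good_neg hu; rwa [h1, neg_neg] at this)

/-- Trace of a product in characteristic two. -/
def tr2 (A B : SL(2, F)) : F :=
  (A : Matrix (Fin 2) (Fin 2) F) 0 1 * (B : Matrix (Fin 2) (Fin 2) F) 1 0 +
    (A : Matrix (Fin 2) (Fin 2) F) 1 0 * (B : Matrix (Fin 2) (Fin 2) F) 0 1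

theorem adj_char_two (h2 : ringChar F = 2) {A B : SL(2, F)} (hA : Tz A) (hB : Tz B) (h : tr2 A B ≠ 0) :
    Odd (orderOf (proj A * proj B)) := by
  have : CharP F 2 := ringChar.of_eq h2
  set M := A * B with hM
  set N := (M : Matrix (Fin 2) (Fin 2) F) with hN
  obtain ⟨τ, hτ, hNN⟩ : ∃ τ : F, τ ≠ 0 ∧ N * N = τ • N - 1 := by
    refine ⟨_, ?_, cayley M⟩
    refine fun h0 => h ?_
    rw [hM, Matrix.SpecialLinearGroup.coe_mul] at h0
    simp only [Matrix.mul_apply, Fin.sum_univ_two] at h0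
    rw [show (A : Matrix (Fin 2) (Fin 2) F) 1 1 = _ from hA, show (B : Matrix (Fin 2) (Fin 2) F) 1 1 = _ from hB] at h0
    rw [tr2]
    have h22 : (2 : F) = 0 := CharTwo.two_eq_zero
    linear_combination h0 - (A : Matrix (Fin 2) (Fin 2) F) 0 0 * (B : Matrix (Fin 2) (Fin 2) F) 0 0 * h22
  have key : ∀ k : ℕ, ∃ b : F, N ^ 2 ^ k = τ ^ (2 ^ k - 1) • N + b • (1 : Matrix (Fin 2) (Fin 2) F) := by
    intro k
    induction k with
    | zero => exact ⟨0, by simp⟩
    | succ k ih =>
      obtain ⟨b, hb⟩ := ih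
      refine ⟨-(τ ^ (2 ^ k - 1) * τ ^ (2 ^ k - 1)) + b * b, ?_⟩
      rw [_root_.pow_succ 2, pow_mul, hb, sq, add_mul, mul_add, mul_add, smul_mul_smul_comm, smul_mul_smul_comm,
        smul_mul_smul_comm, smul_mul_smul_comm, hNN, one_mul, mul_one, one_mul]
      have e : τ ^ (2 ^ k * 2 - 1) = τ ^ (2 ^ k - 1) * τ ^ (2 ^ k - 1) * τ := by
        have : 0 < 2 ^ k := Nat.two_pow_pos k
        rw [show 2 ^ k * 2 - 1 = (2 ^ k - 1) + (2 ^ k - 1) + 1 by omega, _root_.pow_succ, pow_add]
      rw [e]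
      have hz : (2 : F) * (τ ^ (2 ^ k - 1) * b) = 0 := by rw [CharTwo.two_eq_zero, zero_mul]
      match_scalars <;> first | linear_combination hz | ring1
  obtain ⟨n, -, hcard⟩ := FiniteField.card F 2
  obtain ⟨b, hb⟩ := key n
  rw [← hcard] at hb
  rw [FiniteField.pow_card_sub_one_eq_one τ hτ, one_smul] at hb
  have hqq : N ^ (Fintype.card F * Fintype.card F) = N := by
    have : CharP (Matrix (Fin 2) (Fin 2) F) 2 := inferInstance
    rw [pow_mul, hb, hcard, add_pow_char_pow_of_commute 2 n ((Commute.one_right N).smul_right b), ← hcard, hb,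
      smul_pow, one_pow, FiniteField.pow_card, add_assoc, ← add_smul, CharTwo.add_self_eq_zero, zero_smul, add_zero]
  have hpow : (proj M) ^ (Fintype.card F * Fintype.card F - 1) = 1 := by
    have hMq : M ^ (Fintype.card F * Fintype.card F) = M :=
      Subtype.ext (by rw [Matrix.SpecialLinearGroup.coe_pow]; exact hqq)
    rw [← QuotientGroup.mk_pow, show M ^ (Fintype.card F * Fintype.card F - 1) = 1 from
      mul_right_cancel (b := M) (by
        rw [← _root_.pow_succ, Nat.sub_add_cancel (Nat.mul_pos Fintype.card_pos Fintype.card_pos), hMq, one_mul])]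
    rfl
  have heven : 2 ∣ Fintype.card F := hcard ▸ dvd_pow_self 2 n.2.ne'
  have hodd : Odd (Fintype.card F * Fintype.card F - 1) := by
    have h4 : 2 ∣ Fintype.card F * Fintype.card F := Dvd.dvd.mul_right heven _
    have : 0 < Fintype.card F * Fintype.card F := Nat.mul_pos Fintype.card_pos Fintype.card_pos
    rw [Nat.odd_iff]; omega
  rw [proj_mul, ← hM]
  exact hodd.of_dvd_nat (orderOf_dvd_of_pow_eq_one hpow)

omit [Fintype F] in
theorem tz_entries [CharP F 2] {A : SL(2, F)} (hA : Tz A) :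
    ((A : Matrix (Fin 2) (Fin 2) F) 0 0 - 1) ^ 2 =
      (A : Matrix (Fin 2) (Fin 2) F) 0 1 * (A : Matrix (Fin 2) (Fin 2) F) 1 0 := by
  have h := det_eq A
  rw [show (A : Matrix (Fin 2) (Fin 2) F) 1 1 = _ from hA] at h
  have h2 : (2 : F) = 0 := CharTwo.two_eq_zero
  linear_combination -h - ((A : Matrix (Fin 2) (Fin 2) F) 0 0 + (A : Matrix (Fin 2) (Fin 2) F) 0 1 * (A : Matrix (Fin 2) (Fin 2) F) 1 0) * h2

omit [Fintype F] in
theorem bc_ne_zero [CharP F 2] {A : SL(2, F)} (hA : Tz A) (hnc : A ∉ Subgroup.center SL(2, F)) :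
    (A : Matrix (Fin 2) (Fin 2) F) 0 1 ≠ 0 ∨ (A : Matrix (Fin 2) (Fin 2) F) 1 0 ≠ 0 := by
  by_contra h
  push Not at h
  refine hnc (mem_center_of_scalar A ((A : Matrix (Fin 2) (Fin 2) F) 0 0) ?_)
  ext i j
  fin_cases i <;> fin_cases j <;> simp [h.1, h.2]
  rw [show (A : Matrix (Fin 2) (Fin 2) F) 1 1 = _ from hA, CharTwo.neg_eq]

theorem exists_common_two (h2 : ringChar F = 2) {A B : SL(2, F)} (hA : Tz A) (hB : Tz B)
    (hAn : A ∉ Subgroup.center SL(2, F)) (hBn : B ∉ Subgroup.center SL(2, F)) (h : tr2 A B = 0) :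
    ∃ C : SL(2, F), Tz C ∧ C ∉ Subgroup.center SL(2, F) ∧ proj A ≠ proj C ∧ proj C ≠ proj B ∧
      Odd (orderOf (proj A * proj C)) ∧ Odd (orderOf (proj C * proj B)) := by
  have : CharP F 2 := ringChar.of_eq h2
  have h22 : (2 : F) = 0 := CharTwo.two_eq_zero
  obtain ⟨C, hC, hCn, hAC⟩ : ∃ C : SL(2, F), Tz C ∧ C ∉ Subgroup.center SL(2, F) ∧ tr2 A C ≠ 0 := by
    rcases bc_ne_zero hA hAn with hb | hc
    · refine ⟨mkTz 1 0 1 (by linear_combination -h22), tz_mkTz _ _ _ _, fun hmem => ?_, ?_⟩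
      · obtain ⟨r, -, hr⟩ := Matrix.SpecialLinearGroup.mem_center_iff.1 hmem
        have := congrFun (congrFun hr 1) 0
        simp [mkTz] at this
      · simpa [tr2, mkTz] using hb
    · refine ⟨mkTz 1 1 0 (by linear_combination -h22), tz_mkTz _ _ _ _, fun hmem => ?_, ?_⟩
      · obtain ⟨r, -, hr⟩ := Matrix.SpecialLinearGroup.mem_center_iff.1 hmem
        have := congrFun (congrFun hr 0) 1
        simp [mkTz] at this
      · simpa [tr2, mkTz] using hc
  have hsymm : ∀ X Y : SL(2, F), tr2 X Y = tr2 Y X := fun X Y => by simp only [tr2]; ring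
  have hCB : tr2 C B ≠ 0 := by
    intro h0
    refine hAC ?_
    simp only [tr2] at h h0 ⊢
    rcases bc_ne_zero hB hBn with hb | hc
    · refine (mul_eq_zero.1 (?_ : (B : Matrix (Fin 2) (Fin 2) F) 0 1 * _ = 0)).resolve_left hb
      linear_combination (C : Matrix (Fin 2) (Fin 2) F) 0 1 * h + (A : Matrix (Fin 2) (Fin 2) F) 0 1 * h0 -
        (A : Matrix (Fin 2) (Fin 2) F) 0 1 * (C : Matrix (Fin 2) (Fin 2) F) 0 1 * (B : Matrix (Fin 2) (Fin 2) F) 1 0 * h22
    · refine (mul_eq_zero.1 (?_ : (B : Matrix (Fin 2) (Fin 2) F) 1 0 * _ = 0)).resolve_left hc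
      linear_combination (C : Matrix (Fin 2) (Fin 2) F) 1 0 * h + (A : Matrix (Fin 2) (Fin 2) F) 1 0 * h0 -
        (A : Matrix (Fin 2) (Fin 2) F) 1 0 * (C : Matrix (Fin 2) (Fin 2) F) 1 0 * (B : Matrix (Fin 2) (Fin 2) F) 0 1 * h22
  have hne : ∀ X Y : SL(2, F), Tz X → tr2 X Y ≠ 0 → proj X ≠ proj Y := by
    intro X Y hX hXY he
    obtain ⟨r, -, hr⟩ := Matrix.SpecialLinearGroup.mem_center_iff.1 (QuotientGroup.eq.1 he)
    have hY : (Y : Matrix (Fin 2) (Fin 2) F) = r • (X : Matrix (Fin 2) (Fin 2) F) := by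
      rw [show Y = X * (X⁻¹ * Y) by group, Matrix.SpecialLinearGroup.coe_mul, ← hr, Matrix.scalar_apply,
        ← Matrix.smul_one_eq_diagonal, mul_smul_comm, mul_one]
    refine hXY ?_
    simp only [tr2, hY, Matrix.smul_apply, smul_eq_mul]
    linear_combination (X : Matrix (Fin 2) (Fin 2) F) 0 1 * (X : Matrix (Fin 2) (Fin 2) F) 1 0 * r * h22
  exact ⟨C, hC, hCn, hne A C hA hAC, hne C B hC hCB, adj_char_two h2 hA hC hAC, adj_char_two h2 hC hB hCB⟩

theorem noncentral_of_odd_char (h2 : ringChar F ≠ 2) {A : SL(2, F)} (hA : Tz A) :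
    A ∉ Subgroup.center SL(2, F) := by
  intro h
  obtain ⟨r, hr2, hr⟩ := Matrix.SpecialLinearGroup.mem_center_iff.1 h
  have h1 := congrFun (congrFun hr 0) 0
  have h4 := congrFun (congrFun hr 1) 1
  simp at h1 h4
  rw [show (A : Matrix (Fin 2) (Fin 2) F) 1 1 = _ from hA, ← h1] at h4
  have h0 : r = 0 := by
    rcases mul_eq_zero.1 (show (2 : F) * r = 0 by linear_combination h4) with h | h
    · exact absurd h (Ring.two_ne_zero h2)
    · exact h
  rw [h0, Fintype.card_fin, zero_pow two_ne_zero] at hr2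
  exact zero_ne_one hr2

/-- Some two distinct involutions are not adjacent. -/
theorem exists_nonadjacent (hF : 4 ≤ Fintype.card F) :
    ∃ A B : SL(2, F), Tz A ∧ A ∉ Subgroup.center SL(2, F) ∧ Tz B ∧ B ∉ Subgroup.center SL(2, F) ∧
      proj A ≠ proj B ∧ ¬ Odd (orderOf (proj A * proj B)) := by
  classical
  have hkey : ∀ A B : SL(2, F), proj A ≠ proj B → Tz (A * B) → Tz A → ¬ Odd (orderOf (proj A * proj B)) := by
    intro A B hne hAB hA hodd
    have hnc : A * B ∉ Subgroup.center SL(2, F) := fun h => hne (by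
      have h1 : proj A * proj B = 1 := proj_eq_one.2 h
      calc proj A = proj A * (proj A * proj B) := by rw [h1, mul_one]
        _ = proj B := by rw [← mul_assoc, proj_mul_self hA, one_mul])
    rw [proj_mul, orderOf_proj hAB hnc] at hodd
    exact absurd hodd (by decide)
  by_cases h2 : ringChar F = 2
  · have : CharP F 2 := ringChar.of_eq h2
    have h22 : (2 : F) = 0 := CharTwo.two_eq_zero
    obtain ⟨β, hβ⟩ : ∃ β : F, β ∉ ({0, 1} : Finset F) := by
      by_contra hall
      push Not at hall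
      have := Finset.card_le_card (s := Finset.univ) (fun x _ => hall x)
      have := Finset.card_le_two (a := (0 : F)) (b := 1)
      rw [Finset.card_univ] at *
      omega
    simp only [Finset.mem_insert, Finset.mem_singleton, not_or] at hβ
    have hd : ∀ β : F, -((1 : F) * 1) - β * 0 = 1 := fun β => by linear_combination -h22
    have hnc : ∀ β : F, β ≠ 0 → mkTz 1 β 0 (hd β) ∉ Subgroup.center SL(2, F) := fun β hβ hmem => by
      obtain ⟨r, -, hr⟩ := Matrix.SpecialLinearGroup.mem_center_iff.1 hmem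
      have := congrFun (congrFun hr 0) 1
      simp [mkTz] at this
      exact hβ this.symm
    have hne : proj (mkTz 1 β 0 (hd β)) ≠ proj (mkTz 1 1 0 (hd 1)) := by
      intro h
      obtain ⟨r, -, hr⟩ := Matrix.SpecialLinearGroup.mem_center_iff.1 (QuotientGroup.eq.1 h)
      have hY : ((mkTz 1 1 0 (hd 1) : SL(2, F)) : Matrix (Fin 2) (Fin 2) F) =
          r • ((mkTz 1 β 0 (hd β) : SL(2, F)) : Matrix (Fin 2) (Fin 2) F) := by
        rw [show mkTz 1 1 0 (hd 1) = mkTz 1 β 0 (hd β) * ((mkTz 1 β 0 (hd β))⁻¹ * mkTz 1 1 0 (hd 1)) by group,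
          Matrix.SpecialLinearGroup.coe_mul, ← hr, Matrix.scalar_apply, ← Matrix.smul_one_eq_diagonal,
          mul_smul_comm, mul_one]
      have e0 := congrFun (congrFun hY 0) 0
      have e1 := congrFun (congrFun hY 0) 1
      simp [mkTz] at e0 e1
      rw [← e0, one_mul] at e1
      exact hβ.2 e1.symm
    refine ⟨_, _, tz_mkTz 1 β 0 (hd β), hnc β hβ.1, tz_mkTz 1 1 0 (hd 1), hnc 1 one_ne_zero, hne,
      hkey _ _ hne ?_ (tz_mkTz _ _ _ _)⟩
    simp only [Tz, Matrix.SpecialLinearGroup.coe_mul]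
    simp [mkTz, Matrix.mul_apply, Fin.sum_univ_two, CharTwo.neg_eq]
  · obtain ⟨x, y, hxy⟩ := exists_two_squares (-1 : F)
    have hd : -(x * x) - y * y = 1 := by linear_combination -hxy
    have hne : proj (J : SL(2, F)) ≠ proj (mkTz x y y hd) := by
      intro h
      obtain ⟨-, h1⟩ := ip_sq_of_proj_eq h2 (tz_mkTz _ _ _ _) h J
      rcases h1 with e | e <;> simp [ip, mkTz] at e
    refine ⟨_, _, tz_mkTz _ _ _ _, noncentral_of_odd_char h2 (tz_mkTz _ _ _ _), tz_mkTz x y y hd,
      noncentral_of_odd_char h2 (tz_mkTz _ _ _ _), hne, hkey _ _ hne ?_ (tz_mkTz _ _ _ _)⟩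
    simp only [Tz, Matrix.SpecialLinearGroup.coe_mul]
    simp [J, mkTz, Matrix.mul_apply, Fin.sum_univ_two]

/-- Two involutions are equal, adjacent, or have a common neighbour. -/
theorem step (hF : 4 ≤ Fintype.card F) (x y : Matrix.ProjectiveSpecialLinearGroup (Fin 2) F)
    (hx : orderOf x = 2) (hy : orderOf y = 2) :
    Odd (orderOf (x * y)) ∨ ∃ z, orderOf z = 2 ∧ x ≠ z ∧ z ≠ y ∧ Odd (orderOf (x * z)) ∧ Odd (orderOf (z * y)) := by
  obtain ⟨A, hA, hAn, rfl⟩ := exists_lift x hx
  obtain ⟨B, hB, hBn, rfl⟩ := exists_lift y hy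
  by_cases h2 : ringChar F = 2
  · by_cases h : tr2 A B = 0
    · obtain ⟨C, hC, hCn, h1, h1', h3, h4⟩ := exists_common_two h2 hA hB hAn hBn h
      exact Or.inr ⟨proj C, orderOf_proj hC hCn, h1, h1', h3, h4⟩
    · exact Or.inl (adj_char_two h2 hA hB h)
  · by_cases h : Good (ip A B)
    · exact Or.inl (adj_of_good h2 hA hB h)
    · obtain ⟨C, hC, h1, h1', h3, h4⟩ := exists_common_odd h2 hF hA hB h
      exact Or.inr ⟨proj C, orderOf_proj hC (noncentral_of_odd_char h2 hC), h1, h1', h3, h4⟩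

end Cfsg.Agent.InvGraphPSL
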